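import Groth.Agent.Lib.NormDvr9.Basic
import Groth.Agent.Lib.Stein.Fibration
import Mathlib.AlgebraicGeometry.Normalization
import Mathlib.Topology.LocallyFinite
import Groth.Prelude.Def_Pi1

/-!
# The normalization in a normal scheme with locally finitely many components
-/

set_option autoImplicit false
set_option linter.style.haveILetI false
set_option backward.isDefEq.respectTransparency false

universe u

open CategoryTheory AlgebraicGeometry TopologicalSpace Opposite

namespace GrothLib.NormNormal9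

variable {Y : Scheme.{u}}

/-- Sections of a normal integral scheme form a normal domain. -/
theorem isIntegrallyClosed_sections {W : Scheme.{u}} [IsIntegral W] (hW : Pi1.IsNormalScheme W) (U : W.Opens)
    [Nonempty U] : IsIntegrallyClosed Γ(W, U) := by
  obtain ⟨u₀, hu₀⟩ := ‹Nonempty U›
  have hη : genericPoint W ∈ U := (genericPoint_specializes u₀).mem_open U.isOpen hu₀
  let γ : Γ(W, U) →+* W.functionField := (W.presheaf.germ U (genericPoint W) hη).hom
  have hγ : Function.Injective γ := germ_injective_of_isIntegral W (genericPoint W) hη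
  refine (isIntegrallyClosed_iff (FractionRing Γ(W, U))).2 fun {x} hx => ?_
  let ψ : FractionRing Γ(W, U) →+* W.functionField := IsFractionRing.lift hγ
  have hψ : ∀ a, ψ (algebraMap _ _ a) = γ a := fun a => IsFractionRing.lift_algebraMap hγ a
  obtain ⟨P, hP, hP0⟩ := hx
  obtain ⟨s, hs⟩ : ∃ s : Γ(W, U), γ s = ψ x := by
    refine GrothLib.Stein.exists_section_of_mem_stalks hu₀ (ψ x) fun z hz => ?_
    haveI := (hW z).2
    let gz := (W.presheaf.germ U z hz).hom
    have hcomp : (algebraMap (W.presheaf.stalk z) W.functionField).comp gz = γ := by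
      ext a
      exact TopCat.Presheaf.germ_stalkSpecializes_apply W.presheaf hz (genericPoint_specializes z) a
    have hint : IsIntegral (W.presheaf.stalk z) (ψ x) := by
      refine ⟨P.map gz, hP.map _, ?_⟩
      rw [Polynomial.eval₂_map, hcomp]
      have h := congrArg ψ hP0
      rw [map_zero, Polynomial.hom_eval₂] at h
      rw [← h]
      refine congrArg (fun e => Polynomial.eval₂ e (ψ x) P) ?_
      ext a
      exact (hψ a).symm
    exact IsIntegrallyClosed.algebraMap_eq_of_integral hint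
  exact ⟨s, ψ.injective ((hψ s).trans hs)⟩

/-- With domains as local rings, irreducible components through a point coincide. -/
theorem components_eq_of_mem {T : Scheme.{u}} (h : ∀ z : T, IsDomain (T.presheaf.stalk z))
    {C₁ C₂ : Set T} (h₁ : C₁ ∈ irreducibleComponents T) (h₂ : C₂ ∈ irreducibleComponents T) {z : T}
    (hz₁ : z ∈ C₁) (hz₂ : z ∈ C₂) : C₁ = C₂ := by
  have := h z
  let a := genericPoint (Spec (T.presheaf.stalk z))
  have key : ∀ {C : Set T}, C ∈ irreducibleComponents T → z ∈ C →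
      C = closure {T.fromSpecStalk z a} := by
    intro C hC hzC
    obtain ⟨t, ht⟩ := QuasiSober.sober hC.1 (isClosed_of_mem_irreducibleComponents C hC)
    obtain ⟨b, hb⟩ : t ∈ Set.range (T.fromSpecStalk z) := by
      rw [Scheme.range_fromSpecStalk]; exact ht.specializes hzC
    have h1 : T.fromSpecStalk z a ⤳ t := hb ▸ (genericPoint_specializes b).map (T.fromSpecStalk z).continuous
    have hsub : C ⊆ closure {T.fromSpecStalk z a} := ht.symm.subset.trans (specializes_iff_closure_subset.1 h1)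
    exact Set.Subset.antisymm hsub (hC.2 isIrreducible_singleton.closure hsub)
  rw [key h₁ hz₁, key h₂ hz₂]



/-- With domains as local rings and locally finitely many components, components are clopen. -/
theorem isClopen_component (hdom : ∀ y : Y, IsDomain (Y.presheaf.stalk y))
    (hfin : LocallyFinite (fun Z : ↥(irreducibleComponents ↥Y) => (Z : Set ↥Y))) {C : Set Y}
    (hC : C ∈ irreducibleComponents Y) : IsClopen C := by
  refine ⟨isClosed_of_mem_irreducibleComponents C hC, isClosed_compl_iff.1 ?_⟩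
  let g : {Z : ↥(irreducibleComponents ↥Y) // Z.1 ≠ C} → Set Y := fun Z => Z.1.1
  have h : Cᶜ = ⋃ Z, g Z := by
    ext z
    simp only [Set.mem_iUnion, Set.mem_compl_iff, g]
    refine ⟨fun hz => ⟨⟨⟨_, irreducibleComponent_mem_irreducibleComponents z⟩,
      fun h => hz (h ▸ mem_irreducibleComponent)⟩, mem_irreducibleComponent⟩, ?_⟩
    rintro ⟨⟨⟨Z, hZ⟩, hne⟩, hzZ⟩ hz
    exact hne (components_eq_of_mem hdom hZ hC hzZ hz)
  rw [h]
  exact (hfin.comp_injective Subtype.val_injective).isClosed_iUnion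
    fun Z => isClosed_of_mem_irreducibleComponents _ Z.1.2

/-- Extension by zero along a clopen subset. -/
theorem exists_ext_zero (V : Y.Opens) {A A' : Y.Opens} (hA : A ≤ V) (hA' : A' ≤ V) (hcov : V ≤ A ⊔ A')
    (hdis : A ⊓ A' = ⊥) (b : Γ(Y, A)) :
    ∃ g : Γ(Y, V), Y.presheaf.map (homOfLE hA).op g = b ∧ Y.presheaf.map (homOfLE hA').op g = 0 := by
  let T : Bool → Y.Opens := fun i => if i then A else A'
  let sf : ∀ i, Γ(Y, T i) := fun i => match i with
    | true => b
    | false => 0
  have hsub : ∀ S : Y.Opens, S ≤ ⊥ → ∀ z z' : Γ(Y, S), z = z' := fun S hS z z' =>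
    TopCat.Sheaf.eq_of_locally_eq' Y.sheaf (fun i : PEmpty.{1} => (i.elim : Y.Opens)) S
      (fun i => i.elim) (fun x hx => (hS hx).elim) z z' fun i => i.elim
  obtain ⟨g, hg, -⟩ := TopCat.Sheaf.existsUnique_gluing' Y.sheaf T V
    (fun i => homOfLE (by cases i <;> assumption)) (fun x hx => by
      rcases hcov hx with h | h
      · exact Opens.mem_iSup.2 ⟨true, h⟩
      · exact Opens.mem_iSup.2 ⟨false, h⟩) sf (fun i j => by
      cases i <;> cases j
      · rfl
      · exact hsub _ (by rw [inf_comm]; exact hdis.le) _ _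
      · exact hsub _ hdis.le _ _
      · rfl)
  exact ⟨g, hg true, hg false⟩

variable {X : Scheme.{u}} (f : Y ⟶ X) [QuasiCompact f] [QuasiSeparated f]

/-- The chart ring of a normalization is the integral closure inside the sections. -/
theorem chart_props {U : X.Opens} (hU : IsAffineOpen U) (e : f ⁻¹ᵁ U ≤ f.toNormalization ⁻¹ᵁ (f.fromNormalization ⁻¹ᵁ U)) :
    Function.Injective (f.toNormalization.appLE _ _ e) ∧
      ∀ b : Γ(Y, f ⁻¹ᵁ U), (f.toNormalization.appLE _ _ e).hom.IsIntegralElem b →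
        ∃ r, f.toNormalization.appLE _ _ e r = b := by
  letI algB := (f.app U).hom.toAlgebra
  letI algR : Algebra Γ(X, U) Γ(f.normalization, f.fromNormalization ⁻¹ᵁ U) := (f.fromNormalization.app U).hom.toAlgebra
  let ψ := (f.toNormalization.appLE (f.fromNormalization ⁻¹ᵁ U) (f ⁻¹ᵁ U) e).hom
  letI : Algebra Γ(f.normalization, f.fromNormalization ⁻¹ᵁ U) Γ(Y, f ⁻¹ᵁ U) := ψ.toAlgebra
  have hiso : ∀ r, ((f.normalizationObjIso hU).hom r).1 = ψ r :=
    ConcreteCategory.congr_hom (f.normalizationObjIso_hom_val hU)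
  haveI : IsScalarTower Γ(X, U) Γ(f.normalization, f.fromNormalization ⁻¹ᵁ U) Γ(Y, f ⁻¹ᵁ U) :=
    .of_algebraMap_eq fun r => by
      show f.app U r = ψ (f.fromNormalization.app U r)
      rw [← hiso, f.fromNormalization_app hU, CommRingCat.comp_apply, Iso.inv_hom_id_apply]
      rfl
  haveI : Algebra.IsIntegral Γ(X, U) Γ(f.normalization, f.fromNormalization ⁻¹ᵁ U) := by
    rw [← algebraMap_isIntegral_iff]
    exact f.fromNormalization.isIntegral_app U hU
  refine ⟨fun r r' h => (f.normalizationObjIso hU).commRingCatIsoToRingEquiv.injective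
      (Subtype.ext ((hiso r).trans (h.trans (hiso r').symm))), fun b hb => ?_⟩
  refine ⟨(f.normalizationObjIso hU).inv ⟨b, isIntegral_trans (R := Γ(X, U)) b hb⟩, ?_⟩
  show ψ _ = b
  rw [← hiso, Iso.inv_hom_id_apply]

variable (hY : Pi1.IsNormalScheme Y) (hfin : LocallyFinite (fun Z : ↥(irreducibleComponents ↥Y) => (Z : Set ↥Y)))
include hY hfin

/-- Only a generic point maps to a generization of the image of a generic point. -/
theorem eq_of_specializes {y y' : Y} (hy : closure {y} ∈ irreducibleComponents Y)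
    (hy' : closure {y'} ∈ irreducibleComponents Y) (h : f.toNormalization y' ⤳ f.toNormalization y) : y' = y := by
  by_contra hne
  have hne' : closure {y'} ≠ closure ({y} : Set Y) := fun he =>
    hne ((isGenericPoint_closure (x := y')).eq (he.symm ▸ isGenericPoint_closure (x := y)))
  have hclo := isClopen_component (fun z => (hY z).1) hfin hy'
  obtain ⟨_, ⟨U, hU : IsAffineOpen U, rfl⟩, hyU, -⟩ := X.isBasis_affineOpens.exists_subset_of_mem_open
    (Set.mem_univ (f y)) isOpen_univ
  let W := f.fromNormalization ⁻¹ᵁ U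
  have e : f ⁻¹ᵁ U ≤ f.toNormalization ⁻¹ᵁ W := by
    rw [← Scheme.Hom.comp_preimage, f.toNormalization_fromNormalization]
  obtain ⟨hinj, hcl⟩ := chart_props f hU e
  let A : Y.Opens := f ⁻¹ᵁ U ⊓ ⟨_, hclo.2⟩
  let A' : Y.Opens := f ⁻¹ᵁ U ⊓ ⟨_, hclo.1.isOpen_compl⟩
  obtain ⟨g, hg, hg'⟩ := exists_ext_zero (f ⁻¹ᵁ U) (A := A) (A' := A') inf_le_left inf_le_left
    (fun z hz => (em (z ∈ closure ({y'} : Set Y))).elim (fun h => Or.inl ⟨hz, h⟩) fun h => Or.inr ⟨hz, h⟩)
    (eq_bot_iff.2 fun z hz => hz.2.2 hz.1.2) (1 : Γ(Y, A))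
  have hidem : g * g = g := by
    refine TopCat.Sheaf.eq_of_locally_eq₂ Y.sheaf (homOfLE (inf_le_left : A ≤ f ⁻¹ᵁ U))
      (homOfLE (inf_le_left : A' ≤ f ⁻¹ᵁ U))
      (fun z hz => (em (z ∈ closure ({y'} : Set Y))).elim (fun h => Or.inl ⟨hz, h⟩) fun h => Or.inr ⟨hz, h⟩) _ _ ?_ ?_
    · show Y.presheaf.map (homOfLE inf_le_left).op (g * g) = Y.presheaf.map (homOfLE inf_le_left).op g
      rw [map_mul, hg, one_mul]
    · show Y.presheaf.map (homOfLE inf_le_left).op (g * g) = Y.presheaf.map (homOfLE inf_le_left).op g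
      rw [map_mul, hg', zero_mul]
  obtain ⟨r, hr⟩ := hcl g ⟨Polynomial.X * (Polynomial.X - Polynomial.C 1),
    Polynomial.monic_X.mul (Polynomial.monic_X_sub_C 1), by simp [mul_sub, hidem]⟩
  have hyA' : y ∈ A' := ⟨hyU, fun hmem =>
    hne' (components_eq_of_mem (fun z => (hY z).1) hy' hy hmem (subset_closure rfl))⟩
  have hopen : f.toNormalization y ∈ f.normalization.basicOpen (1 - r) := by
    have h1 : y ∈ Y.basicOpen (f.toNormalization.appLE W (f ⁻¹ᵁ U) e (1 - r)) := by
      rw [map_sub, map_one, hr]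
      have h2 : y ∈ Y.basicOpen (Y.presheaf.map (homOfLE (inf_le_left : A' ≤ f ⁻¹ᵁ U)).op (1 - g)) := by
        rw [map_sub, map_one, hg', sub_zero, Scheme.basicOpen_of_isUnit _ isUnit_one]
        exact hyA'
      rw [Scheme.basicOpen_res] at h2
      exact h2.2
    rw [Scheme.basicOpen_appLE] at h1
    exact h1.2
  have hopen' : y' ∈ f.toNormalization ⁻¹ᵁ f.normalization.basicOpen (1 - r) :=
    h.mem_open (f.normalization.basicOpen (1 - r)).2 hopen
  have hy'W : f.toNormalization y' ∈ W := f.normalization.basicOpen_le _ hopen'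
  have hy'A : y' ∈ A := by
    refine ⟨?_, subset_closure rfl⟩
    show f y' ∈ U
    have h3 : f.fromNormalization (f.toNormalization y') ∈ U := hy'W
    rwa [← Scheme.Hom.comp_apply, f.toNormalization_fromNormalization] at h3
  have h4 : y' ∈ Y.basicOpen (Y.presheaf.map (homOfLE (inf_le_left : A ≤ f ⁻¹ᵁ U)).op
      (f.toNormalization.appLE W (f ⁻¹ᵁ U) e (1 - r))) := by
    rw [Scheme.basicOpen_res, Scheme.basicOpen_appLE]
    exact ⟨hy'A, hy'A.1, hopen'⟩
  rw [map_sub, map_one, hr, map_sub, map_one, hg, sub_self, Scheme.basicOpen_zero] at h4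
  exact h4

/-- The normalization is normal. -/
theorem isNormalScheme : Pi1.IsNormalScheme f.normalization := by
  classical
  haveI : IsReduced Y :=
    have : ∀ z : Y, _root_.IsReduced (Y.presheaf.stalk z) := fun z =>
      haveI := (hY z).1
      inferInstance
    isReduced_of_isReduced_stalk Y
  intro x'
  obtain ⟨_, ⟨U, hU : IsAffineOpen U, rfl⟩, hxU, -⟩ := X.isBasis_affineOpens.exists_subset_of_mem_open
    (Set.mem_univ (f.fromNormalization x')) isOpen_univ
  let V := f ⁻¹ᵁ U
  let W := f.fromNormalization ⁻¹ᵁ U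
  have hW : IsAffineOpen W := hU.preimage f.fromNormalization
  have hxW : x' ∈ W := hxU
  have e : V ≤ f.toNormalization ⁻¹ᵁ W := by
    rw [← Scheme.Hom.comp_preimage, f.toNormalization_fromNormalization]
  obtain ⟨hinj, hcl⟩ := chart_props f hU e
  let ψ := (f.toNormalization.appLE W V e).hom
  have hS : {Z : ↥(irreducibleComponents ↥Y) | ((Z : Set ↥Y) ∩ V).Nonempty}.Finite :=
    hfin.finite_nonempty_inter_compact (QuasiCompact.isCompact_preimage (f := f) _ U.2 hU.isCompact)
  let I := {Z : ↥(irreducibleComponents ↥Y) // Z ∈ hS.toFinset}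
  have hclo : ∀ i : I, IsClopen (i.1 : Set Y) := fun i => isClopen_component (fun z => (hY z).1) hfin i.1.2
  let A : I → Y.Opens := fun i => V ⊓ ⟨_, (hclo i).2⟩
  let A' : I → Y.Opens := fun i => V ⊓ ⟨_, (hclo i).1.isOpen_compl⟩
  have hcov : ∀ i, V ≤ A i ⊔ A' i := fun i z hz =>
    (em (z ∈ (i.1 : Set Y))).elim (fun h => Or.inl ⟨hz, h⟩) fun h => Or.inr ⟨hz, h⟩
  have hdis : ∀ i, A i ⊓ A' i = ⊥ := fun i => eq_bot_iff.2 fun z hz => hz.2.2 hz.1.2
  choose g hg hg' using fun i => exists_ext_zero V (A := A i) (A' := A' i) inf_le_left inf_le_left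
    (hcov i) (hdis i) (1 : Γ(Y, A i))
  have hidem : ∀ i, g i * g i = g i := fun i => by
    refine TopCat.Sheaf.eq_of_locally_eq₂ Y.sheaf (homOfLE (inf_le_left : A i ≤ V))
      (homOfLE (inf_le_left : A' i ≤ V)) (hcov i) _ _ ?_ ?_
    · show Y.presheaf.map (homOfLE inf_le_left).op (g i * g i) = Y.presheaf.map (homOfLE inf_le_left).op (g i)
      rw [map_mul, hg, one_mul]
    · show Y.presheaf.map (homOfLE inf_le_left).op (g i * g i) = Y.presheaf.map (homOfLE inf_le_left).op (g i)
      rw [map_mul, hg', zero_mul]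
  choose r hr using fun i => hcl (g i) ⟨Polynomial.X * (Polynomial.X - Polynomial.C 1),
    Polynomial.monic_X.mul (Polynomial.monic_X_sub_C 1), by simp [mul_sub, hidem]⟩
  let q := hW.primeIdealOf ⟨x', hxW⟩
  obtain ⟨i, hi⟩ : ∃ i, r i ∉ q.asIdeal := by
    by_contra hcon
    push Not at hcon
    have h0 : ∏ i : I, (1 - g i) = 0 := by
      refine TopCat.Sheaf.eq_of_locally_eq' Y.sheaf A V (fun _ => homOfLE inf_le_left) (fun z hz =>
        Opens.mem_iSup.2 ⟨⟨⟨_, irreducibleComponent_mem_irreducibleComponents z⟩,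
          hS.mem_toFinset.2 ⟨z, mem_irreducibleComponent, hz⟩⟩, hz, mem_irreducibleComponent⟩) _ _ fun j => ?_
      show Y.presheaf.map (homOfLE inf_le_left).op _ = Y.presheaf.map (homOfLE inf_le_left).op 0
      rw [map_prod, map_zero]
      exact Finset.prod_eq_zero (Finset.mem_univ j) (by rw [map_sub, map_one, hg, sub_self])
    have h1 : ∏ i : I, (1 - r i) = 0 := hinj (by rw [map_prod, map_zero, ← h0]; simp only [map_sub, map_one, hr])
    obtain ⟨j, -, hj⟩ := (Ideal.IsPrime.prod_mem_iff).1 (h1 ▸ q.asIdeal.zero_mem : ∏ i : I, (1 - r i) ∈ q.asIdeal)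
    exact q.2.ne_top (q.asIdeal.eq_top_iff_one.2 (by simpa using q.asIdeal.add_mem hj (hcon j)))
  haveI : IrreducibleSpace (A i : Scheme.{u}) := by
    rw [irreducibleSpace_def]
    refine ⟨?_, ?_⟩
    · obtain ⟨z, hzC, hzV⟩ := hS.mem_toFinset.1 i.2
      exact ⟨⟨z, hzV, hzC⟩, trivial⟩
    · have h : (A i).ι ⁻¹' (i.1 : Set Y) = Set.univ := Set.eq_univ_of_forall fun z => z.2.2
      have h2 := i.1.2.1.isPreirreducible.preimage (A i).ι.isOpenEmbedding
      rw [h] at h2
      exact h2
  haveI : IsIntegral (A i : Scheme.{u}) := isIntegral_of_irreducibleSpace_of_isReduced _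
  have hAn : Pi1.IsNormalScheme (A i : Scheme.{u}) := fun z => by
    obtain ⟨h1, h2⟩ := hY z.1
    let σ := ((A i).stalkIso z).commRingCatIsoToRingEquiv
    exact ⟨σ.injective.isDomain σ.toRingHom, IsIntegrallyClosed.of_equiv σ.symm⟩
  haveI : Nonempty (⊤ : (A i : Scheme.{u}).Opens) := ⟨⟨genericPoint _, trivial⟩⟩
  let t := (A i).topIso.commRingCatIsoToRingEquiv
  haveI : IsDomain Γ(Y, A i) := t.symm.injective.isDomain t.symm.toRingHom
  haveI : IsIntegrallyClosed Γ(Y, A i) :=
    haveI := isIntegrallyClosed_sections hAn ⊤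
    IsIntegrallyClosed.of_equiv t
  letI algψ : Algebra Γ(f.normalization, W) Γ(Y, A i) :=
    ((Y.presheaf.map (homOfLE (inf_le_left : A i ≤ V)).op).hom.comp ψ).toAlgebra
  let C := Γ(Y, A i)
  have hker : ∀ a, algebraMap Γ(f.normalization, W) C a = 0 → a * r i = 0 := fun a ha => hinj (by
    rw [map_mul, map_zero, hr]
    refine TopCat.Sheaf.eq_of_locally_eq₂ Y.sheaf (homOfLE (inf_le_left : A i ≤ V))
      (homOfLE (inf_le_left : A' i ≤ V)) (hcov i) _ _ ?_ ?_
    · show Y.presheaf.map (homOfLE inf_le_left).op _ = Y.presheaf.map (homOfLE inf_le_left).op 0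
      rw [map_mul, map_zero, show Y.presheaf.map (homOfLE (inf_le_left : A i ≤ V)).op (ψ a) = 0 from ha, zero_mul]
    · show Y.presheaf.map (homOfLE inf_le_left).op _ = Y.presheaf.map (homOfLE inf_le_left).op 0
      rw [map_mul, map_zero, hg', mul_zero])
  have hcl' : ∀ b : C, IsIntegral Γ(f.normalization, W) b → ∃ a, algebraMap Γ(f.normalization, W) C a = b := by
    rintro b ⟨P, hP, hPb⟩
    obtain ⟨b', hb, hb'⟩ := exists_ext_zero V (A := A i) (A' := A' i) inf_le_left inf_le_left (hcov i) (hdis i) b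
    have hev : Polynomial.eval₂ ψ b' (Polynomial.X * P) = 0 := by
      refine TopCat.Sheaf.eq_of_locally_eq₂ Y.sheaf (homOfLE (inf_le_left : A i ≤ V))
        (homOfLE (inf_le_left : A' i ≤ V)) (hcov i) _ _ ?_ ?_
      · show Y.presheaf.map (homOfLE inf_le_left).op _ = Y.presheaf.map (homOfLE inf_le_left).op 0
        rw [Polynomial.eval₂_mul, Polynomial.eval₂_X, map_mul, map_zero, Polynomial.hom_eval₂, hb]
        exact mul_eq_zero_of_right _ hPb
      · show Y.presheaf.map (homOfLE inf_le_left).op _ = Y.presheaf.map (homOfLE inf_le_left).op 0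
        rw [Polynomial.eval₂_mul, Polynomial.eval₂_X, map_mul, map_zero, hb', zero_mul]
    obtain ⟨a, ha⟩ := hcl b' ⟨_, Polynomial.monic_X.mul hP, hev⟩
    exact ⟨a, (congrArg (Y.presheaf.map (homOfLE (inf_le_left : A i ≤ V)).op) ha).trans hb⟩
  let M := q.asIdeal.primeCompl
  have hM : (0 : C) ∉ Algebra.algebraMapSubmonoid C M := by
    rintro ⟨a, ha, h0⟩
    have := hker a h0
    exact (Ideal.IsPrime.mem_or_mem q.2 (this ▸ q.asIdeal.zero_mem)).elim ha hi
  let S := f.normalization.presheaf.stalk x'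
  letI := TopCat.Presheaf.algebra_section_stalk f.normalization.presheaf (⟨x', hxW⟩ : W)
  haveI : IsLocalization M S := hW.isLocalization_stalk ⟨x', hxW⟩
  let Bm := Localization (Algebra.algebraMapSubmonoid C M)
  haveI : IsDomain Bm := IsLocalization.isDomain_localization (le_nonZeroDivisors_of_noZeroDivisors hM)
  haveI : IsIntegrallyClosed Bm :=
    isIntegrallyClosed_of_isLocalization Bm (Algebra.algebraMapSubmonoid C M) (le_nonZeroDivisors_of_noZeroDivisors hM)
  have hmap : ∀ m : M, IsUnit (algebraMap Γ(f.normalization, W) Bm m) := fun m => by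
    rw [IsScalarTower.algebraMap_apply Γ(f.normalization, W) C Bm]
    exact IsLocalization.map_units Bm (⟨_, Algebra.mem_algebraMapSubmonoid_of_mem m⟩ : Algebra.algebraMapSubmonoid C M)
  letI : Algebra S Bm := (IsLocalization.lift (M := M) (S := S) hmap).toAlgebra
  haveI : IsScalarTower Γ(f.normalization, W) S Bm :=
    .of_algebraMap_eq fun a => (IsLocalization.lift_eq hmap a).symm
  have hinj' : Function.Injective (algebraMap S Bm) := (injective_iff_map_eq_zero _).2 fun z hz => by
    obtain ⟨a, m, rfl⟩ := IsLocalization.exists_mk'_eq M z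
    have h1 : algebraMap C Bm (algebraMap _ C a) = 0 := by
      have h2 := congrArg (algebraMap S Bm) (IsLocalization.mk'_spec S a m)
      rw [map_mul, hz, zero_mul, ← IsScalarTower.algebraMap_apply, IsScalarTower.algebraMap_apply _ C Bm] at h2
      exact h2.symm
    have h3 := IsLocalization.injective Bm (le_nonZeroDivisors_of_noZeroDivisors hM) (h1.trans (map_zero _).symm)
    rw [IsLocalization.mk'_eq_zero_iff]
    exact ⟨⟨r i, hi⟩, (mul_comm _ _).trans (hker a h3)⟩
  haveI : IsDomain S := hinj'.isDomain _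
  refine ⟨inferInstance, (isIntegrallyClosed_iff (FractionRing S)).2 fun {x} hx => ?_⟩
  have hinjK : Function.Injective ((algebraMap Bm (FractionRing Bm)).comp (algebraMap S Bm)) :=
    (IsFractionRing.injective Bm _).comp hinj'
  let Ψ : FractionRing S →ₐ[S] FractionRing Bm :=
    { IsFractionRing.lift hinjK with commutes' := fun a => IsFractionRing.lift_algebraMap hinjK a }
  have hxK : IsIntegral S (Ψ x) := hx.map Ψ
  obtain ⟨b, hb⟩ := IsIntegrallyClosed.algebraMap_eq_of_integral (R := Bm) hxK.tower_top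
  obtain ⟨a, ha⟩ := NormDvr9.exists_eq_of_isIntegral_localization (M := M) hcl'
    (x := b) ((isIntegral_algebraMap_iff (IsFractionRing.injective Bm (FractionRing Bm))).1 (hb.symm ▸ hxK))
  refine ⟨a, Ψ.toRingHom.injective ?_⟩
  show Ψ (algebraMap S _ a) = Ψ x
  rw [AlgHom.commutes, IsScalarTower.algebraMap_apply S Bm (FractionRing Bm), ha, hb]

end GrothLib.NormNormal9
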